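import Groth.Agent.Lib.ExtZero.Stalk
import Groth.Agent.Lib.EtSite.Immersion
import Groth.Agent.Lib.EtSite.PushStalk
import Mathlib.FieldTheory.IsAlgClosed.AlgebraicClosure
import Mathlib.CategoryTheory.Adjunction.Triple
import Mathlib.CategoryTheory.Adjunction.Unique

/-!
# Extension by zero along open immersions

Stalks of restrictions, base change, characterisation of extensions by zero along open
immersions, and compatibility with finite direct images.
-/

universe u

open CategoryTheory CategoryTheory.Limits AlgebraicGeometry Opposite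
open GrothLib.EtSite

namespace GrothLib.ExtZero

variable {U X : Scheme.{u}}

/-- `compEtale j` is left adjoint to base change along `j`. -/
noncomputable def compBCAdj (j : U ⟶ X) [hj : Etale j] : EtShriek.compEtale j ⊣ EtCoh.bc j :=
  MorphismProperty.Over.mapPullbackAdj EtCoh.etaleMP ⊤ j hj trivial

/-- Restriction is left adjoint to direct image. -/
noncomputable def restrPushAdj (j : U ⟶ X) [Etale j] [EtShriek.JCont j] :
    EtShriek.restrAlong j ⊣ EtCoh.push j :=
  (compBCAdj j).sheafPushforwardContinuous U.smallEtaleTopology X.smallEtaleTopology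

/-- Restriction along an etale morphism is the inverse image. -/
noncomputable def restrIsoPull (j : U ⟶ X) [Etale j] [EtShriek.JCont j] :
    EtShriek.restrAlong j ≅ EtCoh.pull j :=
  Adjunction.leftAdjointUniq (restrPushAdj j) (EtCoh.pullPushAdj j)

variable {Ω : Type u} [Field Ω] [IsSepClosed Ω]

/-- Stalks of a restriction. -/
noncomputable def restrStalkIso (j : U ⟶ X) [Etale j] [EtShriek.JCont j]
    (u : Spec (CommRingCat.of Ω) ⟶ U) :
    EtShriek.restrAlong j ⋙ EtCoh.stalk u ≅ EtCoh.stalk (u ≫ j) :=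
  Functor.isoWhiskerRight (restrIsoPull j) (EtCoh.stalk u) ≪≫ pullStalkIso u j

lemma zero_of_stalks {F G : EtCoh.Ab X} (a : F ⟶ G)
    (h : ∀ (Ω : Type u) [Field Ω] [IsSepClosed Ω] (ξ : Spec (CommRingCat.of Ω) ⟶ X),
      (EtCoh.stalk ξ).map a = 0) : a = 0 := by
  ext V s
  refine section_eq_zero_of_germs G V.unop _ fun Ω _ _ ξ t => ?_
  refine (stalk_map_germ ξ a t s).symm.trans ?_
  rw [h Ω ξ]
  rfl

/-- The stalk of an extension by zero vanishes at a point with no point above it. -/
lemma stalk_extZero_isZero (j : U ⟶ X) [Etale j] [EtShriek.JCont j] (F : EtCoh.Ab U)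
    (ξ : Spec (CommRingCat.of Ω) ⟶ X) (hξ : ∀ u : Spec (CommRingCat.of Ω) ⟶ U, u ≫ j ≠ ξ) :
    IsZero ((EtCoh.stalk ξ).obj ((EtShriek.extZero j).obj F)) := by
  refine IsZero.of_iso ?_ (sumIso j ξ F).symm
  rw [IsZero.iff_id_eq_zero]
  exact Sigma.hom_ext _ _ fun u => absurd u.2 (hξ u.1)

lemma ne_of_notMem_range (j : U ⟶ X) (ξ : Spec (CommRingCat.of Ω) ⟶ X)
    (hξ : ξ.base default ∉ Set.range j.base) (u : Spec (CommRingCat.of Ω) ⟶ U) : u ≫ j ≠ ξ := by
  rintro rfl
  exact hξ ⟨u.base default, rfl⟩

lemma range_subset_compl {S : Set X} (ξ : Spec (CommRingCat.of Ω) ⟶ X)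
    (hξ : ξ.base default ∉ S) : Set.range ξ.base ⊆ Sᶜ := by
  rintro _ ⟨p, rfl⟩
  rwa [Subsingleton.elim p default]

lemma exists_lift_of_mem (j : U ⟶ X) [IsOpenImmersion j] (ξ : Spec (CommRingCat.of Ω) ⟶ X)
    (hξ : ξ.base default ∈ Set.range j.base) :
    ∃ u : Spec (CommRingCat.of Ω) ⟶ U, u ≫ j = ξ := by
  refine ⟨IsOpenImmersion.lift j ξ ?_, IsOpenImmersion.lift_fac j ξ _⟩
  rintro _ ⟨p, rfl⟩
  rwa [Subsingleton.elim p default]

section open_immersion

variable (j : U ⟶ X) [IsOpenImmersion j] [Etale j] [EtShriek.JCont j]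

/-- The unit of extension by zero along an open immersion is an isomorphism. -/
theorem isIso_unit (F : EtCoh.Ab U) : IsIso ((EtShriek.extZeroAdj j).unit.app F) := by
  let t : Adjunction.Triple (EtShriek.extZero j) (EtShriek.restrAlong j) (EtCoh.push j) :=
    ⟨EtShriek.extZeroAdj j, restrPushAdj j⟩
  have h : IsIso t.adj₂.counit := inferInstance
  have := t.isIso_unit_iff_isIso_counit.2 h
  exact inferInstanceAs (IsIso (t.adj₁.unit.app F))

theorem isIso_restr_counit (G : EtCoh.Ab X) :
    IsIso ((EtShriek.restrAlong j).map ((EtShriek.extZeroAdj j).counit.app G)) := by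
  have := isIso_unit j ((EtShriek.restrAlong j).obj G)
  have : IsIso (𝟙 ((EtShriek.restrAlong j).obj G)) := IsIso.id _
  exact IsIso.of_isIso_fac_left ((EtShriek.extZeroAdj j).right_triangle_components G)

theorem isIso_stalk_counit (G : EtCoh.Ab X) (ξ : Spec (CommRingCat.of Ω) ⟶ X)
    (hξ : ξ.base default ∈ Set.range j.base) :
    IsIso ((EtCoh.stalk ξ).map ((EtShriek.extZeroAdj j).counit.app G)) := by
  obtain ⟨u, rfl⟩ := exists_lift_of_mem j ξ hξ
  have := isIso_restr_counit j G
  exact (NatIso.isIso_map_iff (restrStalkIso j u) _).1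
    (inferInstanceAs (IsIso ((EtCoh.stalk u).map
      ((EtShriek.restrAlong j).map ((EtShriek.extZeroAdj j).counit.app G)))))

/-- A sheaf vanishing outside an open subscheme is an extension by zero. -/
theorem isIso_counit_of_vanish (G : EtCoh.Ab X)
    (h : ∀ (Ω : Type u) [Field Ω] [IsSepClosed Ω] (ξ : Spec (CommRingCat.of Ω) ⟶ X),
      ξ.base default ∉ Set.range j.base → IsZero ((EtCoh.stalk ξ).obj G)) :
    IsIso ((EtShriek.extZeroAdj j).counit.app G) := by
  refine isIso_of_stalks _ fun Ω _ _ ξ => ?_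
  rw [← ConcreteCategory.isIso_iff_bijective]
  by_cases hξ : ξ.base default ∈ Set.range j.base
  · exact isIso_stalk_counit j G ξ hξ
  · exact isIso_of_source_target_iso_zero _
      (IsZero.isoZero (stalk_extZero_isZero j _ ξ (ne_of_notMem_range j ξ hξ)))
      (IsZero.isoZero (h Ω ξ hξ))

/-- A sheaf vanishing outside an open subscheme is determined by its restriction. -/
theorem nonempty_iso_extZero (F : EtCoh.Ab U) (G : EtCoh.Ab X)
    (e : (EtShriek.restrAlong j).obj G ≅ F)
    (h : ∀ (Ω : Type u) [Field Ω] [IsSepClosed Ω] (ξ : Spec (CommRingCat.of Ω) ⟶ X),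
      ξ.base default ∉ Set.range j.base → IsZero ((EtCoh.stalk ξ).obj G)) :
    Nonempty (G ≅ (EtShriek.extZero j).obj F) := by
  have := isIso_counit_of_vanish j G h
  exact ⟨(asIso ((EtShriek.extZeroAdj j).counit.app G)).symm ≪≫ (EtShriek.extZero j).mapIso e⟩

end open_immersion

/-- The localisation sequence of a closed subscheme and its open complement is short exact. -/
theorem shortExact_localization {Z : Scheme.{u}} (i : Z ⟶ X) [IsClosedImmersion i] (j : U ⟶ X)
    [IsOpenImmersion j] [Etale j] [EtShriek.JCont j]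
    (hU : Set.range j.base = (Set.range i.base)ᶜ) (F : EtCoh.Ab X) :
    ∃ w : (EtShriek.extZeroAdj j).counit.app F ≫ (EtCoh.pullPushAdj i).unit.app F = 0,
      (ShortComplex.mk _ _ w).ShortExact := by
  have hout : ∀ (Ω : Type u) [Field Ω] [IsSepClosed Ω] (ξ : Spec (CommRingCat.of Ω) ⟶ X),
      ξ.base default ∈ Set.range i.base → IsZero ((EtCoh.stalk ξ).obj
        ((EtShriek.extZero j).obj ((EtShriek.restrAlong j).obj F))) := fun Ω _ _ ξ h =>
    stalk_extZero_isZero j _ ξ (ne_of_notMem_range j ξ fun h' => (hU ▸ h') h)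
  have hunit : ∀ (Ω : Type u) [Field Ω] [IsSepClosed Ω] (ξ : Spec (CommRingCat.of Ω) ⟶ X),
      ξ.base default ∈ Set.range i.base →
        IsIso ((EtCoh.stalk ξ).map ((EtCoh.pullPushAdj i).unit.app F)) := fun Ω _ _ ξ h => by
    obtain ⟨z, hz⟩ := h
    obtain ⟨ζ, rfl⟩ := exists_point_lift i ξ z hz
    have := isIso_counit i ((EtCoh.pull i).obj F)
    have : IsIso (𝟙 ((EtCoh.pull i).obj F)) := IsIso.id _
    have : IsIso ((EtCoh.pull i).map ((EtCoh.pullPushAdj i).unit.app F)) :=
      IsIso.of_isIso_fac_right ((EtCoh.pullPushAdj i).left_triangle_components F)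
    exact (NatIso.isIso_map_iff (pullStalkIso ζ i) _).1
      (inferInstanceAs (IsIso ((EtCoh.stalk ζ).map
        ((EtCoh.pull i).map ((EtCoh.pullPushAdj i).unit.app F)))))
  have hcounit : ∀ (Ω : Type u) [Field Ω] [IsSepClosed Ω] (ξ : Spec (CommRingCat.of Ω) ⟶ X),
      ξ.base default ∉ Set.range i.base →
        IsIso ((EtCoh.stalk ξ).map ((EtShriek.extZeroAdj j).counit.app F)) := fun Ω _ _ ξ h =>
    isIso_stalk_counit j F ξ (hU.symm ▸ h)
  have hw : (EtShriek.extZeroAdj j).counit.app F ≫ (EtCoh.pullPushAdj i).unit.app F = 0 :=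
    zero_of_stalks _ fun Ω _ _ ξ => by
      by_cases h : ξ.base default ∈ Set.range i.base
      · exact (hout Ω ξ h).eq_of_src _ _
      · exact (stalk_push_isZero i _ ξ h).eq_of_tgt _ _
  refine ⟨hw, { exact := shortComplex_exact_of_stalks _ fun Ω _ _ ξ => ?_, mono_f := ?_, epi_g := ?_ }⟩
  · by_cases h : ξ.base default ∈ Set.range i.base
    · have := hunit Ω ξ h
      rw [ShortComplex.exact_iff_mono _ ((hout Ω ξ h).eq_of_src _ _)]
      exact inferInstanceAs (Mono ((EtCoh.stalk ξ).map ((EtCoh.pullPushAdj i).unit.app F)))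
    · have := hcounit Ω ξ h
      rw [ShortComplex.exact_iff_epi _ ((stalk_push_isZero i _ ξ h).eq_of_tgt _ _)]
      exact inferInstanceAs (Epi ((EtCoh.stalk ξ).map ((EtShriek.extZeroAdj j).counit.app F)))
  · refine mono_of_stalks _ fun Ω _ _ ξ => ?_
    by_cases h : ξ.base default ∈ Set.range i.base
    · have := AddCommGrpCat.subsingleton_of_isZero (hout Ω ξ h)
      exact fun a b _ => @Subsingleton.elim _ this a b
    · have := hcounit Ω ξ h
      exact ((ConcreteCategory.isIso_iff_bijective _).1 this).injective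
  · refine epi_of_stalks _ fun Ω _ _ ξ => ?_
    by_cases h : ξ.base default ∈ Set.range i.base
    · have := hunit Ω ξ h
      exact ((ConcreteCategory.isIso_iff_bijective _).1 this).surjective
    · have := AddCommGrpCat.subsingleton_of_isZero (stalk_push_isZero i ((EtCoh.pull i).obj F) ξ h)
      exact fun a => ⟨0, @Subsingleton.elim _ this _ _⟩

section base_change

variable {V' V Y : Scheme.{u}} (j : V ⟶ X) [hj : Etale j] (f : Y ⟶ X) (j' : V' ⟶ Y)
  [hj' : Etale j'] (f' : V' ⟶ V)

set_option backward.isDefEq.respectTransparency.types false in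
/-- Base change commutes with composition along etale morphisms. -/
noncomputable def bcCompIso (h : IsPullback j' f' f j) :
    EtShriek.compEtale j ⋙ EtCoh.bc f ≅ EtCoh.bc f' ⋙ EtShriek.compEtale j' :=
  have sq : ∀ W : V.Etale,
      IsPullback (pullback.fst W.hom f') (pullback.snd W.hom f' ≫ j') (W.hom ≫ j) f := fun W =>
    ((IsPullback.of_hasPullback W.hom f').paste_vert h.flip)
  NatIso.ofComponents
    (fun W => MorphismProperty.Over.isoMk (sq W).isoPullback.symm
      (by
        change (sq W).isoPullback.inv ≫ pullback.snd W.hom f' ≫ j' = pullback.snd (W.hom ≫ j) f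
        exact (sq W).isoPullback_inv_snd))
    (fun {W W'} g => by
      apply MorphismProperty.Over.Hom.ext
      change ((EtCoh.bc f).map ((EtShriek.compEtale j).map g)).left ≫ (sq W').isoPullback.inv =
        (sq W).isoPullback.inv ≫ ((EtCoh.bc f').map g).left
      have e1 : ((EtCoh.bc f').map g).left ≫ pullback.fst W'.hom f' =
          pullback.fst W.hom f' ≫ g.left := (EtCoh.isPullback_bc_map f' g).w
      have e2 : ((EtCoh.bc f).map ((EtShriek.compEtale j).map g)).left ≫
          pullback.fst (W'.hom ≫ j) f = pullback.fst (W.hom ≫ j) f ≫ g.left :=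
        (EtCoh.isPullback_bc_map f ((EtShriek.compEtale j).map g)).w
      have e3 : ((EtCoh.bc f').map g).left ≫ pullback.snd W'.hom f' = pullback.snd W.hom f' :=
        pullback.lift_snd _ _ _
      have e4 : ((EtCoh.bc f).map ((EtShriek.compEtale j).map g)).left ≫
          pullback.snd (W'.hom ≫ j) f = pullback.snd (W.hom ≫ j) f := pullback.lift_snd _ _ _
      apply (sq W').hom_ext
      · refine Eq.trans ?_ (Category.assoc _ _ _).symm
        refine (Category.assoc _ _ _).trans ?_
        refine (congrArg (_ ≫ ·) (sq W').isoPullback_inv_fst).trans (e2.trans ?_)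
        refine Eq.trans ?_ (congrArg (_ ≫ ·) e1.symm)
        refine Eq.trans ?_ (Category.assoc _ _ _)
        exact congrArg (· ≫ g.left) (sq W).isoPullback_inv_fst.symm
      · refine Eq.trans ?_ (Category.assoc _ _ _).symm
        refine (Category.assoc _ _ _).trans ?_
        refine (congrArg (_ ≫ ·) (sq W').isoPullback_inv_snd).trans (e4.trans ?_)
        refine (sq W).isoPullback_inv_snd.symm.trans ?_
        refine congrArg (_ ≫ ·) ?_
        exact ((congrArg (· ≫ j') e3.symm).trans (Category.assoc _ _ _)))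

variable [EtShriek.JCont j] [EtShriek.JCont j']

set_option backward.isDefEq.respectTransparency.types false in
/-- Restriction commutes with direct image in a cartesian square. -/
noncomputable def pushRestrIso (h : IsPullback j' f' f j) :
    EtCoh.push f ⋙ EtShriek.restrAlong j ≅ EtShriek.restrAlong j' ⋙ EtCoh.push f' :=
  haveI : (EtShriek.compEtale j ⋙ EtCoh.bc f).IsContinuous V.smallEtaleTopology
      Y.smallEtaleTopology :=
    Functor.isContinuous_comp _ _ _ X.smallEtaleTopology _
  haveI : (EtCoh.bc f' ⋙ EtShriek.compEtale j').IsContinuous V.smallEtaleTopology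
      Y.smallEtaleTopology :=
    Functor.isContinuous_comp _ _ _ V'.smallEtaleTopology _
  Functor.sheafPushforwardContinuousComp (EtShriek.compEtale j) (EtCoh.bc f) AddCommGrpCat.{u + 1}
      V.smallEtaleTopology X.smallEtaleTopology Y.smallEtaleTopology ≪≫
    Functor.sheafPushforwardContinuousIso (bcCompIso j f j' f' h) AddCommGrpCat.{u + 1}
      V.smallEtaleTopology Y.smallEtaleTopology ≪≫
    (Functor.sheafPushforwardContinuousComp (EtCoh.bc f') (EtShriek.compEtale j')
      AddCommGrpCat.{u + 1} V.smallEtaleTopology V'.smallEtaleTopology Y.smallEtaleTopology).symm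

/-- Extension by zero commutes with inverse image. -/
theorem nonempty_extZero_baseChange (h : IsPullback j' f' f j) :
    Nonempty (EtCoh.pull f' ⋙ EtShriek.extZero j' ≅ EtShriek.extZero j ⋙ EtCoh.pull f) :=
  ⟨Adjunction.leftAdjointUniq
    ((EtCoh.pullPushAdj f').comp (EtShriek.extZeroAdj j'))
    (((EtShriek.extZeroAdj j).comp (EtCoh.pullPushAdj f)).ofNatIsoRight (pushRestrIso j f j' f' h))⟩

end base_change

set_option backward.isDefEq.respectTransparency false in
/-- A sheaf vanishing at the points over `η` has direct image vanishing at `η`. -/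
theorem stalk_push_isZero_of_vanish {Y : Scheme.{u}} (f : X ⟶ Y) [IsIntegralHom f] (K : EtCoh.Ab X)
    {S : Set Y} (hK : ∀ (Ω : Type u) [Field Ω] [IsSepClosed Ω] (ξ : Spec (CommRingCat.of Ω) ⟶ X),
      f.base (ξ.base default) ∈ S → IsZero ((EtCoh.stalk ξ).obj K))
    (η : Spec (CommRingCat.of Ω) ⟶ Y) (hη : η.base default ∈ S) :
    IsZero ((EtCoh.stalk η).obj ((EtCoh.push f).obj K)) := by
  have : Subsingleton ((EtCoh.stalk η).obj ((EtCoh.push f).obj K)) := by
    refine ⟨fun a b => ?_⟩
    rw [← sub_eq_zero]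
    obtain ⟨W, t, s, hs⟩ := exists_germ η _ (a - b)
    let σ : Spec (CommRingCat.of (AlgebraicClosure Ω)) ⟶ Spec (CommRingCat.of Ω) :=
      Spec.map (CommRingCat.ofHom (algebraMap Ω (AlgebraicClosure Ω)))
    let t' : (Scheme.pointSmallEtale (σ ≫ η)).fiber.obj W :=
      fib (σ ≫ η) (U := W) (σ ≫ t.left) ((Category.assoc _ _ _).trans (congrArg (σ ≫ ·) (Over.w t)))
    have h0 : germ (σ ≫ η) ((EtCoh.push f).obj K) t' s = 0 := by
      refine ev_jointly_injective f K _ _ fun ξ hξ => ?_
      refine @Subsingleton.elim _ (AddCommGrpCat.subsingleton_of_isZero (hK _ ξ ?_)) _ _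
      rw [← Scheme.Hom.comp_apply, hξ, Scheme.Hom.comp_apply, Subsingleton.elim (σ _) default]
      exact hη
    obtain ⟨V, g, v, hv, hg⟩ := eq_zero_nhd _ _ t' s h0
    have hv' : g.left.base v = t.left.base (default : Spec (CommRingCat.of Ω)) := by
      refine hv.trans ?_
      change (σ ≫ t.left).base _ = _
      exact (Scheme.Hom.comp_apply _ _ _).trans
        (congrArg _ (Subsingleton.elim _ (default : Spec (CommRingCat.of Ω))))
    haveI : Etale (g.left : V.left ⟶ W.left) := inferInstanceAs (Etale g.left)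
    obtain ⟨l, -⟩ := exists_fib t.left (U := Scheme.Etale.mk g.left) v hv'
    have hl : (Scheme.pointSmallEtale η).fiber.map g (fib η (U := V) l.left (by
        rw [← MorphismProperty.Over.w g, ← Category.assoc]
        exact (congrArg (· ≫ W.hom) (Over.w l)).trans (Over.w t))) = t :=
      Over.OverMorphism.ext (Over.w l)
    rw [← hs, ← hl, ← germ_map, hg, map_zero]
  exact AddCommGrpCat.isZero_of_subsingleton _

/-- Extension by zero along open immersions commutes with finite direct images. -/
theorem nonempty_push_extZero {V Y : Scheme.{u}} (f : X ⟶ Y) [IsIntegralHom f] (j : V ⟶ Y)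
    [IsOpenImmersion j] [Etale j] [EtShriek.JCont j] (j' : U ⟶ X) [IsOpenImmersion j']
    [Etale j'] [EtShriek.JCont j'] (g : U ⟶ V) (h : IsPullback j' g f j) (F : EtCoh.Ab U) :
    Nonempty ((EtCoh.push f).obj ((EtShriek.extZero j').obj F) ≅
      (EtShriek.extZero j).obj ((EtCoh.push g).obj F)) := by
  have := isIso_unit j' F
  refine nonempty_iso_extZero j _ _ ((pushRestrIso j f j' g h).app _ ≪≫
    (EtCoh.push g).mapIso (asIso ((EtShriek.extZeroAdj j').unit.app F)).symm) fun Ω _ _ η hη => ?_
  refine stalk_push_isZero_of_vanish f _ (S := (Set.range j.base)ᶜ) (fun Ω _ _ ξ hξ => ?_) η hη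
  refine stalk_extZero_isZero j' F ξ (ne_of_notMem_range j' ξ ?_)
  rintro ⟨x, hx⟩
  refine hξ ⟨g.base x, ?_⟩
  rw [← hx, ← Scheme.Hom.comp_apply, ← Scheme.Hom.comp_apply, h.w]

end GrothLib.ExtZero
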