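import Groth.Agent.Lib.ExtZero.Stalk
import Groth.Agent.Lib.EtSite.PropSplit
import Groth.Agent.Lib.EtSite.PushStalk
import Mathlib.AlgebraicGeometry.Morphisms.FlatMono
import Mathlib.Algebra.DirectSum.Basic

/-!
# Comparison of extension by zero and direct image along separated etale morphisms

For a separated etale `j : U → X` a section over an etale `U`-scheme `W` extends by zero to a
section over `W ×_X U`, the diagonal copy of `W` being open and closed. This gives an injective
natural map `j_! → j_*`.
-/

universe u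

open CategoryTheory CategoryTheory.Limits AlgebraicGeometry Opposite
open GrothLib.EtSite

noncomputable section

namespace GrothLib.ExtZero

variable {U X : Scheme.{u}} (j : U ⟶ X) [Etale j] [IsSeparated j]

/-- `W ×_X U` over `U`. -/
abbrev dbl (W : U.Etale) : U.Etale := (EtCoh.bc j).obj ((EtShriek.compEtale j).obj W)

/-- The first projection of `W ×_X U`. -/
abbrev dblFst (W : U.Etale) : (dbl j W).left ⟶ W.left :=
  (pullback.fst (W.hom ≫ j) j : pullback (W.hom ≫ j) j ⟶ W.left)

/-- The diagonal `W → W ×_X U`. -/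
def diag (W : U.Etale) : W ⟶ dbl j W :=
  MorphismProperty.Over.homMk (pullback.lift (𝟙 W.left) W.hom (Category.id_comp _))
    (pullback.lift_snd _ _ _)

lemma diag_fst (W : U.Etale) : (diag j W).left ≫ dblFst j W = 𝟙 W.left := pullback.lift_fst _ _ _

instance isSeparated_dblFst (W : U.Etale) : IsSeparated (dblFst j W) :=
  MorphismProperty.pullback_fst (P := @IsSeparated) (W.hom ≫ j) j ‹_›

instance isClosedImmersion_diag (W : U.Etale) : IsClosedImmersion (diag j W).left := by
  have : IsClosedImmersion ((diag j W).left ≫ dblFst j W) := by rw [diag_fst]; infer_instance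
  exact IsClosedImmersion.of_comp (diag j W).left (dblFst j W)

set_option backward.isDefEq.respectTransparency false in
instance isOpenImmersion_diag (W : U.Etale) : IsOpenImmersion (diag j W).left := by
  have : Etale ((diag j W).left : W.left ⟶ (dbl j W).left) := inferInstanceAs (Etale (diag j W).left)
  exact IsOpenImmersion.of_flat_of_mono _

/-- The complement of the diagonal. -/
def offDiag (W : U.Etale) : (dbl j W).left.Opens :=
  ⟨(Set.range (diag j W).left.base)ᶜ,
    (diag j W).left.isClosedEmbedding.isClosed_range.isOpen_compl⟩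

instance isOpenImmersion_offDiag (W : U.Etale) : IsOpenImmersion (offDiag j W).ι :=
  Scheme.Opens.instIsOpenImmersionι _

/-- The diagonal as an open subscheme is `W`. -/
def diagPart (W : U.Etale) : opensObj (dbl j W) (diag j W).left.opensRange ⟶ W :=
  MorphismProperty.Over.homMk (diag j W).left.isoOpensRange.inv (by
    refine (congrArg (_ ≫ ·) (MorphismProperty.Over.w (diag j W)).symm).trans ?_
    refine (Category.assoc _ _ _).symm.trans ?_
    exact congrArg (· ≫ (dbl j W).hom) (diag j W).left.isoOpensRange_inv_comp)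

lemma diagPart_diag (W : U.Etale) :
    diagPart j W ≫ diag j W = opensHom (dbl j W) (diag j W).left.opensRange :=
  MorphismProperty.Over.Hom.ext (diag j W).left.isoOpensRange_inv_comp

lemma diag_diagPart (W : U.Etale) (F : EtCoh.Ab U) (z : EtCoh.sect F (dbl j W))
    (s : EtCoh.sect F W)
    (h : F.obj.map (opensHom (dbl j W) (diag j W).left.opensRange).op z =
      F.obj.map (diagPart j W).op s) : F.obj.map (diag j W).op z = s := by
  let k : W ⟶ opensObj (dbl j W) (diag j W).left.opensRange :=
    MorphismProperty.Over.homMk (diag j W).left.isoOpensRange.hom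
      ((Category.assoc _ _ _).symm.trans ((congrArg (· ≫ (dbl j W).hom)
        (diag j W).left.isoOpensRange_hom_ι).trans (MorphismProperty.Over.w (diag j W))))
  have e1 : k ≫ opensHom (dbl j W) (diag j W).left.opensRange = diag j W :=
    MorphismProperty.Over.Hom.ext (diag j W).left.isoOpensRange_hom_ι
  have e2 : k ≫ diagPart j W = 𝟙 W :=
    MorphismProperty.Over.Hom.ext (diag j W).left.isoOpensRange.hom_inv_id
  rw [← e1, op_comp, Functor.map_comp, ConcreteCategory.comp_apply, h,
    ← ConcreteCategory.comp_apply, ← Functor.map_comp, ← op_comp, e2, op_id, CategoryTheory.Functor.map_id]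
  rfl

/-- `z` is the extension by zero of `s`. -/
def IsExt (F : EtCoh.Ab U) (W : U.Etale) (s : EtCoh.sect F W) (z : EtCoh.sect F (dbl j W)) : Prop :=
  F.obj.map (diag j W).op z = s ∧ F.obj.map (opensHom (dbl j W) (offDiag j W)).op z = 0

lemma existsUnique_isExt (F : EtCoh.Ab U) (W : U.Etale) (s : EtCoh.sect F W) :
    ∃! z, IsExt j F W s z := by
  have hP : Presieve.IsSheaf U.smallEtaleTopology (F.obj ⋙ forget AddCommGrpCat.{u + 1}) :=
    (isSheaf_iff_isSheaf_of_type _ _).1
      ((sheafCompose U.smallEtaleTopology (forget AddCommGrpCat.{u + 1})).obj F).property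
  let O : Bool → (dbl j W).left.Opens := fun b =>
    if b then (diag j W).left.opensRange else offDiag j W
  have hdisj : ∀ a b, a ≠ b → Disjoint (O a) (O b) := by
    intro a b hab
    rw [disjoint_iff_inf_le]
    rintro x ⟨h1, h2⟩
    cases a <;> cases b <;> first | exact absurd rfl hab | exact absurd h2 h1 | exact absurd h1 h2
  have hsup : (⨆ a, O a) = ⊤ := by
    refine eq_top_iff.2 fun x _ => TopologicalSpace.Opens.mem_iSup.2 ?_
    by_cases hx : x ∈ Set.range (diag j W).left.base
    · exact ⟨true, hx⟩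
    · exact ⟨false, hx⟩
  let d : ∀ a, F.obj.obj (op (opensObj (dbl j W) (O a))) := fun a =>
    match a with
    | true => F.obj.map (diagPart j W).op s
    | false => 0
  obtain ⟨z, hz, huniq⟩ := existsUnique_glue hP (dbl j W) O hdisj hsup d
  refine ⟨z, ⟨diag_diagPart j W F z s (hz true), hz false⟩, fun z' hz' => huniq z' fun a => ?_⟩
  cases a
  · exact hz'.2
  · change F.obj.map (opensHom (dbl j W) (diag j W).left.opensRange).op z' =
      F.obj.map (diagPart j W).op s
    rw [← diagPart_diag, op_comp, Functor.map_comp, ConcreteCategory.comp_apply, hz'.1]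

/-- Extension by zero of a section over `W` to `W ×_X U`. -/
def ext₀ (F : EtCoh.Ab U) (W : U.Etale) (s : EtCoh.sect F W) : EtCoh.sect F (dbl j W) :=
  (existsUnique_isExt j F W s).exists.choose

lemma isExt_ext₀ (F : EtCoh.Ab U) (W : U.Etale) (s : EtCoh.sect F W) :
    IsExt j F W s (ext₀ j F W s) :=
  (existsUnique_isExt j F W s).exists.choose_spec

lemma ext₀_eq {F : EtCoh.Ab U} {W : U.Etale} {s : EtCoh.sect F W} {z : EtCoh.sect F (dbl j W)}
    (h : IsExt j F W s z) : ext₀ j F W s = z :=
  (existsUnique_isExt j F W s).unique (isExt_ext₀ j F W s) h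

lemma ext₀_add (F : EtCoh.Ab U) (W : U.Etale) (s t : EtCoh.sect F W) :
    ext₀ j F W (s + t) = ext₀ j F W s + ext₀ j F W t :=
  ext₀_eq j ⟨by rw [map_add, (isExt_ext₀ j F W s).1, (isExt_ext₀ j F W t).1],
    by rw [map_add, (isExt_ext₀ j F W s).2, (isExt_ext₀ j F W t).2, add_zero]⟩

lemma ext₀_app {F G : EtCoh.Ab U} (a : F ⟶ G) (W : U.Etale) (s : EtCoh.sect F W) :
    a.hom.app (op (dbl j W)) (ext₀ j F W s) = ext₀ j G W (a.hom.app (op W) s) :=
  (ext₀_eq j ⟨by
      refine (NatTrans.naturality_apply a.hom (diag j W).op _).symm.trans ?_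
      rw [(isExt_ext₀ j F W s).1],
    by
      refine (NatTrans.naturality_apply a.hom (opensHom (dbl j W) (offDiag j W)).op _).symm.trans ?_
      rw [(isExt_ext₀ j F W s).2, map_zero]⟩).symm

/-- The functoriality of `W ↦ W ×_X U`. -/
abbrev dblMap {W' W : U.Etale} (g : W' ⟶ W) : dbl j W' ⟶ dbl j W :=
  (EtCoh.bc j).map ((EtShriek.compEtale j).map g)

lemma dblMap_fst {W' W : U.Etale} (g : W' ⟶ W) :
    (dblMap j g).left ≫ dblFst j W = dblFst j W' ≫ g.left :=
  (EtCoh.isPullback_bc_map j ((EtShriek.compEtale j).map g)).w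

lemma dblMap_snd {W' W : U.Etale} (g : W' ⟶ W) :
    (dblMap j g).left ≫ (dbl j W).hom = (dbl j W').hom :=
  MorphismProperty.Over.w (dblMap j g)

lemma dbl_hom_ext {T : Scheme.{u}} {W : U.Etale} {a b : T ⟶ (dbl j W).left}
    (h1 : a ≫ dblFst j W = b ≫ dblFst j W) (h2 : a ≫ (dbl j W).hom = b ≫ (dbl j W).hom) : a = b :=
  pullback.hom_ext h1 h2

lemma diag_dblMap {W' W : U.Etale} (g : W' ⟶ W) :
    diag j W' ≫ dblMap j g = g ≫ diag j W := by
  refine MorphismProperty.Over.Hom.ext (dbl_hom_ext j ?_ ?_)
  · change ((diag j W').left ≫ (dblMap j g).left) ≫ _ = (g.left ≫ (diag j W).left) ≫ _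
    rw [Category.assoc, Category.assoc, dblMap_fst, ← Category.assoc, diag_fst, Category.id_comp,
      diag_fst, Category.comp_id]
  · exact (MorphismProperty.Over.w (diag j W' ≫ dblMap j g)).trans
      (MorphismProperty.Over.w (g ≫ diag j W)).symm

lemma offDiag_le {W' W : U.Etale} (g : W' ⟶ W) :
    Set.range ((offDiag j W').ι ≫ (dblMap j g).left).base ⊆ Set.range (offDiag j W).ι.base := by
  rintro _ ⟨x, rfl⟩
  rw [Scheme.Opens.range_ι]
  rintro ⟨w, hw⟩
  obtain ⟨z, hz, -⟩ := Scheme.Pullback.exists_preimage_pullback (f := (dblMap j g).left)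
    (g := (diag j W).left) ((offDiag j W').ι x) w hw.symm
  have hsn : pullback.fst (dblMap j g).left (diag j W).left ≫ (dbl j W').hom =
      pullback.snd (dblMap j g).left (diag j W).left ≫ W.hom := by
    refine (congrArg (_ ≫ ·) (dblMap_snd j g).symm).trans ?_
    exact (Category.assoc _ _ _).symm.trans ((congrArg (· ≫ (dbl j W).hom) pullback.condition).trans
      ((Category.assoc _ _ _).trans (congrArg (_ ≫ ·) (MorphismProperty.Over.w (diag j W)))))
  have hfs : (pullback.fst (dblMap j g).left (diag j W).left ≫ dblFst j W') ≫ g.left =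
      pullback.snd (dblMap j g).left (diag j W).left := by
    refine (Category.assoc _ _ _).trans ((congrArg (_ ≫ ·) (dblMap_fst j g).symm).trans ?_)
    refine (Category.assoc _ _ _).symm.trans ((congrArg (· ≫ _) pullback.condition).trans ?_)
    exact (Category.assoc _ _ _).trans ((congrArg (_ ≫ ·) (diag_fst j W)).trans (Category.comp_id _))
  have e : pullback.fst (dblMap j g).left (diag j W).left =
      (pullback.fst (dblMap j g).left (diag j W).left ≫ dblFst j W') ≫ (diag j W').left := by
    refine dbl_hom_ext j ?_ ?_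
    · exact ((Category.assoc _ _ _).trans
        ((congrArg (_ ≫ ·) (diag_fst j W')).trans (Category.comp_id _))).symm
    · refine hsn.trans (Eq.symm ?_)
      refine ((Category.assoc _ _ _).trans
        (congrArg (_ ≫ ·) (MorphismProperty.Over.w (diag j W')))).trans ?_
      refine (congrArg (_ ≫ ·) (MorphismProperty.Over.w g).symm).trans ?_
      exact (Category.assoc _ _ _).symm.trans (congrArg (· ≫ W.hom) hfs)
  exact x.2 ⟨_, (congrArg (fun k => k.base z) e.symm).trans hz⟩

set_option backward.isDefEq.respectTransparency false in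
/-- The map of complements of the diagonals. -/
def offDiagMap {W' W : U.Etale} (g : W' ⟶ W) :
    opensObj (dbl j W') (offDiag j W') ⟶ opensObj (dbl j W) (offDiag j W) :=
  MorphismProperty.Over.homMk
    (IsOpenImmersion.lift (offDiag j W).ι ((offDiag j W').ι ≫ (dblMap j g).left) (offDiag_le j g))
    (by
      refine (Category.assoc _ _ _).symm.trans ?_
      refine (congrArg (· ≫ (dbl j W).hom) (IsOpenImmersion.lift_fac _ _ _)).trans ?_
      exact (Category.assoc _ _ _).trans (congrArg (_ ≫ ·) (dblMap_snd j g)))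

set_option backward.isDefEq.respectTransparency false in
lemma offDiagMap_ι {W' W : U.Etale} (g : W' ⟶ W) :
    offDiagMap j g ≫ opensHom (dbl j W) (offDiag j W) =
      opensHom (dbl j W') (offDiag j W') ≫ dblMap j g :=
  MorphismProperty.Over.Hom.ext (IsOpenImmersion.lift_fac _ _ _)

lemma ext₀_map (F : EtCoh.Ab U) {W' W : U.Etale} (g : W' ⟶ W) (s : EtCoh.sect F W) :
    F.obj.map (dblMap j g).op (ext₀ j F W s) = ext₀ j F W' (F.obj.map g.op s) :=
  (ext₀_eq j ⟨by
      rw [← ConcreteCategory.comp_apply, ← Functor.map_comp, ← op_comp, diag_dblMap, op_comp,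
        Functor.map_comp, ConcreteCategory.comp_apply, (isExt_ext₀ j F W s).1],
    by
      rw [← ConcreteCategory.comp_apply, ← Functor.map_comp, ← op_comp, ← offDiagMap_ι, op_comp,
        Functor.map_comp, ConcreteCategory.comp_apply, (isExt_ext₀ j F W s).2, map_zero]⟩).symm

variable [EtShriek.JCont j]

/-- The natural map `F → (j_* F)|_U`. -/
def extRestr (F : EtCoh.Ab U) : F ⟶ (EtShriek.restrAlong j).obj ((EtCoh.push j).obj F) :=
  ⟨{ app := fun W => AddCommGrpCat.ofHom (AddMonoidHom.mk' (ext₀ j F W.unop) (ext₀_add j F W.unop))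
     naturality := fun W W' g => by
      ext s
      exact (ext₀_map j F g.unop s).symm }⟩

lemma extRestr_naturality {F G : EtCoh.Ab U} (a : F ⟶ G) :
    a ≫ extRestr j G =
      extRestr j F ≫ (EtShriek.restrAlong j).map ((EtCoh.push j).map a) := by
  ext W s
  exact (ext₀_app j a W.unop s).symm

/-- The comparison map `j_! → j_*`. -/
def toPush : EtShriek.extZero j ⟶ EtCoh.push j where
  app F := ((EtShriek.extZeroAdj j).homEquiv _ _).symm (extRestr j F)
  naturality F G a := by
    rw [← Adjunction.homEquiv_naturality_left_symm, ← Adjunction.homEquiv_naturality_right_symm,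
      extRestr_naturality]

variable {Ω : Type u} [Field Ω] [IsSepClosed Ω] (ξ : Spec (CommRingCat.of Ω) ⟶ X)

lemma unitApp_toPush (F : EtCoh.Ab U) (V : U.Etale) (s : EtCoh.sect F V) :
    ((toPush j).app F).hom.app (op ((EtShriek.compEtale j).obj V)) (unitApp j F V s) =
      ext₀ j F V s :=
  (ConcreteCategory.congr_hom ((extZero_equiv_app j _ V).symm.trans
    (congrArg (fun (k : F ⟶ (EtShriek.restrAlong j).obj ((EtCoh.push j).obj F)) => k.hom.app (op V))
      (Equiv.apply_symm_apply ((EtShriek.extZeroAdj j).homEquiv _ _) (extRestr j F)))) s : _)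

/-- The composite from the sum of stalks to the stalk at `u`. -/
def component (F : EtCoh.Ab U) (u : Pts j ξ) : stalkSum j ξ F ⟶ (EtCoh.stalk u.1).obj F :=
  fromSum j ξ F ≫ (EtCoh.stalk ξ).map ((toPush j).app F) ≫ ev j u.1 u.2 F

lemma component_germ (F : EtCoh.Ab U) (u u' : Pts j ξ) {V : U.Etale}
    (t : (Scheme.pointSmallEtale u'.1).fiber.obj V) (s : EtCoh.sect F V) :
    component j ξ F u (Sigma.ι (fun u : Pts j ξ => (EtCoh.stalk u.1).obj F) u' (germ u'.1 F t s)) =
      germ u.1 F (liftPt j (liftFib j ξ u' t) u.1 u.2) (ext₀ j F V s) := by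
  have h1 : fromSum j ξ F (Sigma.ι (fun u : Pts j ξ => (EtCoh.stalk u.1).obj F) u' (germ u'.1 F t s)) =
      germ ξ _ (liftFib j ξ u' t) (unitApp j F V s) :=
    (ConcreteCategory.congr_hom (Sigma.ι_desc (fun u => incl j ξ F u) u') _).trans
      (ConcreteCategory.congr_hom (germ_incl j ξ F u' t) s)
  change ev j u.1 u.2 F ((EtCoh.stalk ξ).map ((toPush j).app F) (fromSum j ξ F _)) = _
  rw [h1]
  refine (congrArg (ev j u.1 u.2 F) (stalk_map_germ ξ ((toPush j).app F) (liftFib j ξ u' t) _)).trans ?_
  refine (ev_germ j u.1 u.2 F (liftFib j ξ u' t) _).trans ?_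
  exact congrArg (germ u.1 F _) (unitApp_toPush j F V s)

open Classical in
set_option backward.isDefEq.respectTransparency false in
lemma ι_component (F : EtCoh.Ab U) (u u' : Pts j ξ) :
    Sigma.ι (fun u : Pts j ξ => (EtCoh.stalk u.1).obj F) u' ≫ component j ξ F u =
      if h : u' = u then eqToHom (by rw [h]) else 0 := by
  refine (Scheme.pointSmallEtale u'.1).presheafFiber_hom_ext fun V t => ?_
  ext s
  change component j ξ F u (Sigma.ι (fun u : Pts j ξ => (EtCoh.stalk u.1).obj F) u'
    (germ u'.1 F t s)) = _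
  refine (component_germ j ξ F u u' t s).trans ?_
  by_cases h : u' = u
  · subst h
    rw [dif_pos rfl]
    have e : liftPt j (liftFib j ξ u' t) u'.1 u'.2 =
        (Scheme.pointSmallEtale u'.1).fiber.map (diag j V) t := by
      apply Over.OverMorphism.ext
      refine dbl_hom_ext j ?_ ?_
      · refine (pullback.lift_fst _ _ _).trans ?_
        refine Eq.trans ?_ (Category.assoc _ _ _).symm
        exact ((congrArg (t.left ≫ ·) (diag_fst j V)).trans (Category.comp_id _)).symm
      · refine (pullback.lift_snd _ _ _).trans ?_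
        exact (Over.w ((Scheme.pointSmallEtale u'.1).fiber.map (diag j V) t)).symm
    rw [e, ← germ_map, (isExt_ext₀ j F V s).1]
    rfl
  · rw [dif_neg h]
    let p := liftPt j (liftFib j ξ u' t) u.1 u.2
    have hp : Set.range p.left.base ⊆ Set.range (offDiag j V).ι.base := by
      rintro _ ⟨x, rfl⟩
      refine (Set.ext_iff.1 (Scheme.Opens.range_ι (offDiag j V)) _).2 ?_
      rintro ⟨w, hw⟩
      have hr : Set.range p.left.base ⊆ Set.range (diag j V).left.base := by
        rintro _ ⟨y, rfl⟩
        exact ⟨w, hw.trans (congrArg _ (@Subsingleton.elim (Spec (CommRingCat.of Ω)) inferInstance _ _))⟩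
      let l := IsOpenImmersion.lift (diag j V).left p.left hr
      have hl : l ≫ (diag j V).left = p.left := IsOpenImmersion.lift_fac _ _ _
      have hl1 : l = t.left := by
        refine Eq.trans ?_ (pullback.lift_fst _ _ _ : p.left ≫ dblFst j V = t.left)
        exact (Category.comp_id l).symm.trans ((congrArg (l ≫ ·) (diag_fst j V).symm).trans
          ((Category.assoc _ _ _).symm.trans (congrArg (· ≫ dblFst j V) hl)))
      refine h (Subtype.ext ?_)
      refine (Over.w t).symm.trans ?_
      refine Eq.trans ?_ (Over.w p)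
      exact (congrArg (· ≫ V.hom) hl1.symm).trans
        ((congrArg (l ≫ ·) (MorphismProperty.Over.w (diag j V)).symm).trans
          ((Category.assoc _ _ _).symm.trans (congrArg (· ≫ (dbl j V).hom) hl)))
    let q : (Scheme.pointSmallEtale u.1).fiber.obj (opensObj (dbl j V) (offDiag j V)) :=
      fib u.1 (U := opensObj (dbl j V) (offDiag j V))
        (IsOpenImmersion.lift (offDiag j V).ι p.left hp)
        ((Category.assoc _ _ _).symm.trans ((congrArg (· ≫ (dbl j V).hom)
          (IsOpenImmersion.lift_fac _ _ _)).trans (Over.w p)))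
    have hq : (Scheme.pointSmallEtale u.1).fiber.map (opensHom (dbl j V) (offDiag j V)) q = p :=
      Over.OverMorphism.ext (IsOpenImmersion.lift_fac _ _ _)
    change germ u.1 F p (ext₀ j F V s) = _
    rw [← hq, ← germ_map, (isExt_ext₀ j F V s).2, map_zero]
    rfl

open Classical in
theorem injective_stalk_toPush (F : EtCoh.Ab U) :
    Function.Injective ((EtCoh.stalk ξ).map ((toPush j).app F)) := by
  rw [injective_iff_map_eq_zero]
  intro y hy
  obtain ⟨x, rfl⟩ : ∃ x, fromSum j ξ F x = y :=
    ⟨(sumIso j ξ F).inv y, (ConcreteCategory.congr_hom (sumIso j ξ F).inv_hom_id y : _)⟩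
  let M := AddCommGrpCat.of (DirectSum (Pts j ξ) fun u => (EtCoh.stalk u.1).obj F)
  let e : stalkSum j ξ F ⟶ M := Sigma.desc fun u =>
    AddCommGrpCat.ofHom (DirectSum.of (fun u : Pts j ξ => ((EtCoh.stalk u.1).obj F : Type (u + 1))) u)
  let b : M ⟶ stalkSum j ξ F := AddCommGrpCat.ofHom (DirectSum.toAddMonoid (β := fun u : Pts j ξ => ((EtCoh.stalk u.1).obj F : Type (u + 1))) fun u =>
    (Sigma.ι (fun u : Pts j ξ => (EtCoh.stalk u.1).obj F) u).hom)
  have heb : e ≫ b = 𝟙 _ := Sigma.hom_ext _ _ fun u => by
    rw [Sigma.ι_desc_assoc, Category.comp_id]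
    ext a
    exact DirectSum.toAddMonoid_of
      (fun u : Pts j ξ => (Sigma.ι (fun u : Pts j ξ => (EtCoh.stalk u.1).obj F) u).hom) u a
  have hcomp : ∀ u : Pts j ξ, component j ξ F u =
      e ≫ AddCommGrpCat.ofHom (DFinsupp.evalAddMonoidHom u) := fun u => by
    refine Sigma.hom_ext _ _ fun u' => ?_
    rw [ι_component, Sigma.ι_desc_assoc]
    by_cases h : u' = u
    · subst h
      rw [dif_pos rfl]
      ext a
      exact (DirectSum.of_eq_same (β := fun u : Pts j ξ => ((EtCoh.stalk u.1).obj F : Type (u + 1))) u' a).symm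
    · rw [dif_neg h]
      ext a
      exact (DirectSum.of_eq_of_ne (β := fun u : Pts j ξ => ((EtCoh.stalk u.1).obj F : Type (u + 1))) u' u a (Ne.symm h)).symm
  have hx : e x = 0 := DFinsupp.ext fun u => by
    refine (ConcreteCategory.congr_hom (hcomp u) x).symm.trans ?_
    change ev j u.1 u.2 F ((EtCoh.stalk ξ).map ((toPush j).app F) (fromSum j ξ F x)) = _
    rw [hy, map_zero]
    rfl
  rw [show x = b (e x) from (ConcreteCategory.congr_hom heb x).symm, hx, map_zero, map_zero]

/-- For a separated etale morphism extension by zero injects naturally into direct image. -/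
theorem exists_mono_toPush :
    ∃ τ : EtShriek.extZero j ⟶ EtCoh.push j, ∀ F : EtCoh.Ab U, Mono (τ.app F) :=
  ⟨toPush j, fun F => mono_of_stalks _ fun Ω _ _ ξ => injective_stalk_toPush j ξ F⟩

end GrothLib.ExtZero
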