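import Groth.Prelude.Def_EtShriek2
import Groth.Agent.Lib.EtSite.Pull
import Mathlib.CategoryTheory.Sites.Point.Skyscraper
import Mathlib.Algebra.Category.Grp.AB
import Mathlib.CategoryTheory.Abelian.Exact
import Mathlib.CategoryTheory.Abelian.GrothendieckAxioms.Colim

/-!
# Stalks of extension by zero along an etale morphism

The stalk of `j_! F` at a geometric point `ξ` is the direct sum of the stalks of `F` at the
geometric points of `U` over `ξ`.
-/

universe u

open CategoryTheory CategoryTheory.Limits AlgebraicGeometry Opposite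
open GrothLib.EtSite

namespace GrothLib.ExtZero

variable {U X : Scheme.{u}} (j : U ⟶ X) [Etale j] [EtShriek.JCont j]
  {Ω : Type u} [Field Ω] [IsSepClosed Ω] (ξ : Spec (CommRingCat.of Ω) ⟶ X)

/-- The geometric points of `U` over `ξ`. -/
abbrev Pts : Type u := {u : Spec (CommRingCat.of Ω) ⟶ U // u ≫ j = ξ}

/-- The sum of the stalks of `F` at the points over `ξ`. -/
noncomputable abbrev stalkSum (F : EtCoh.Ab U) : AddCommGrpCat.{u + 1} :=
  ∐ fun u : Pts j ξ => (EtCoh.stalk u.1).obj F

/-- The image in the sum of stalks of a section at a point of `V` over `ξ`. -/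
noncomputable def toSum (F : EtCoh.Ab U) (V : U.Etale) (l : Spec (CommRingCat.of Ω) ⟶ V.left)
    (hl : (l ≫ V.hom) ≫ j = ξ) : F.obj.obj (op V) ⟶ stalkSum j ξ F :=
  germ (l ≫ V.hom) F (fib (l ≫ V.hom) (U := V) l rfl) ≫
    Sigma.ι (fun u : Pts j ξ => (EtCoh.stalk u.1).obj F) ⟨l ≫ V.hom, hl⟩

lemma germ_ι_aux (F : EtCoh.Ab U) {u : Spec (CommRingCat.of Ω) ⟶ U} (hu : u ≫ j = ξ) {V : U.Etale}
    (t : (Scheme.pointSmallEtale u).fiber.obj V) (l : Spec (CommRingCat.of Ω) ⟶ V.left)
    (ht : t.left = l) (e : l ≫ V.hom = u) :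
    germ u F t ≫ Sigma.ι (fun u : Pts j ξ => (EtCoh.stalk u.1).obj F) ⟨u, hu⟩ =
      toSum j ξ F V l ((congrArg (· ≫ j) e).trans hu) := by
  subst e
  have e : t = fib (l ≫ V.hom) (U := V) l rfl := Over.OverMorphism.ext ht
  rw [e]
  rfl

lemma germ_ι (F : EtCoh.Ab U) (u : Pts j ξ) {V : U.Etale}
    (t : (Scheme.pointSmallEtale u.1).fiber.obj V) :
    germ u.1 F t ≫ Sigma.ι (fun u : Pts j ξ => (EtCoh.stalk u.1).obj F) u =
      toSum j ξ F V t.left ((congrArg (· ≫ j) (Over.w t)).trans u.2) :=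
  germ_ι_aux j ξ F u.2 t t.left rfl (Over.w t)

lemma map_toSum (F : EtCoh.Ab U) {V W : U.Etale} (g : W ⟶ V)
    (l : Spec (CommRingCat.of Ω) ⟶ W.left) (hl : (l ≫ W.hom) ≫ j = ξ)
    (hl' : ((l ≫ g.left) ≫ V.hom) ≫ j = ξ) :
    F.obj.map g.op ≫ toSum j ξ F W l hl = toSum j ξ F V (l ≫ g.left) hl' := by
  have e : F.obj.map g.op ≫ germ (l ≫ W.hom) F (fib (l ≫ W.hom) (U := W) l rfl) =
      germ (l ≫ W.hom) F ((Scheme.pointSmallEtale (l ≫ W.hom)).fiber.map g
        (fib (l ≫ W.hom) (U := W) l rfl)) := by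
    ext s
    exact germ_map _ F g _ s
  rw [toSum, ← Category.assoc, e, germ_ι j ξ F ⟨l ≫ W.hom, hl⟩]
  rfl

/-- A point of `V` over a point `u` over `ξ` is a point of `V → U → X` over `ξ`. -/
noncomputable def liftFib (u : Pts j ξ) {V : U.Etale}
    (t : (Scheme.pointSmallEtale u.1).fiber.obj V) :
    (Scheme.pointSmallEtale ξ).fiber.obj ((EtShriek.compEtale j).obj V) :=
  fib ξ (U := (EtShriek.compEtale j).obj V) t.left
    ((Category.assoc _ _ _).symm.trans ((congrArg (· ≫ j) (Over.w t)).trans u.2))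

/-- The unit of extension by zero on sections. -/
noncomputable abbrev unitApp (F : EtCoh.Ab U) (V : U.Etale) :
    F.obj.obj (op V) ⟶ ((EtShriek.extZero j).obj F).obj.obj (op ((EtShriek.compEtale j).obj V)) :=
  ((EtShriek.extZeroAdj j).unit.app F).hom.app (op V)

/-- The stalk of `F` at a point over `ξ` maps to the stalk of `j_! F` at `ξ`. -/
noncomputable def incl (F : EtCoh.Ab U) (u : Pts j ξ) :
    (EtCoh.stalk u.1).obj F ⟶ (EtCoh.stalk ξ).obj ((EtShriek.extZero j).obj F) :=
  (Scheme.pointSmallEtale u.1).presheafFiberDesc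
    (fun V t => unitApp j F V ≫ germ ξ _ (liftFib j ξ u t)) (fun {V W} g t => by
      ext s
      change germ ξ _ (liftFib j ξ u t) (unitApp j F V (F.obj.map g.op s)) =
        germ ξ _ (liftFib j ξ u ((Scheme.pointSmallEtale u.1).fiber.map g t)) (unitApp j F W s)
      refine (congrArg (germ ξ _ (liftFib j ξ u t)) (NatTrans.naturality_apply
        ((EtShriek.extZeroAdj j).unit.app F).hom g.op s)).trans ?_
      refine (germ_map ξ _ ((EtShriek.compEtale j).map g) (liftFib j ξ u t) _).trans ?_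
      rfl)

lemma germ_incl (F : EtCoh.Ab U) (u : Pts j ξ) {V : U.Etale}
    (t : (Scheme.pointSmallEtale u.1).fiber.obj V) :
    germ u.1 F t ≫ incl j ξ F u = unitApp j F V ≫ germ ξ _ (liftFib j ξ u t) :=
  (Scheme.pointSmallEtale u.1).toPresheafFiber_presheafFiberDesc _ _ V t

/-- The map from the sum of stalks. -/
noncomputable def fromSum (F : EtCoh.Ab U) :
    stalkSum j ξ F ⟶ (EtCoh.stalk ξ).obj ((EtShriek.extZero j).obj F) :=
  Sigma.desc fun u => incl j ξ F u

lemma sky_map_π (A : AddCommGrpCat.{u + 1}) {V W : X.Etale} (g : W ⟶ V)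
    (t : (Scheme.pointSmallEtale ξ).fiber.obj W) :
    ((Scheme.pointSmallEtale ξ).skyscraperPresheaf A).map g.op ≫ Pi.π _ t =
      Pi.π _ ((Scheme.pointSmallEtale ξ).fiber.map g t) := by
  simp only [GrothendieckTopology.Point.skyscraperPresheafFunctor]
  exact (Pi.map'_comp_π _ _ _).trans (Category.comp_id _)

/-- The transpose of the inverse of `fromSum`. -/
noncomputable def toSky (F : EtCoh.Ab U) :
    F ⟶ (EtShriek.restrAlong j).obj
      ((Scheme.pointSmallEtale ξ).skyscraperSheaf (stalkSum j ξ F)) :=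
  ⟨{ app := fun V => Pi.lift fun (t : (Scheme.pointSmallEtale ξ).fiber.obj
        ((EtShriek.compEtale j).obj V.unop)) =>
        toSum j ξ F V.unop t.left ((Category.assoc _ _ _).trans (Over.w t))
     naturality := fun V W g => by
      refine Pi.hom_ext _ _ fun t => ?_
      refine (Category.assoc _ _ _).trans ((congrArg (_ ≫ ·) (Pi.lift_π _ t)).trans ?_)
      refine Eq.trans ?_ (Category.assoc _ _ _).symm
      refine Eq.trans ?_ (congrArg (_ ≫ ·) (sky_map_π ξ _ ((EtShriek.compEtale j).map g.unop) t).symm)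
      refine Eq.trans ?_ (Pi.lift_π (fun (t' : (Scheme.pointSmallEtale ξ).fiber.obj
          ((EtShriek.compEtale j).obj V.unop)) =>
          toSum j ξ F V.unop t'.left ((Category.assoc _ _ _).trans (Over.w t'))) _).symm
      exact map_toSum j ξ F g.unop t.left ((Category.assoc _ _ _).trans (Over.w t)) _ }⟩

lemma skyEquiv_app_π {G : EtCoh.Ab X} {A : AddCommGrpCat.{u + 1}} (f : (EtCoh.stalk ξ).obj G ⟶ A)
    (V : X.Etale) (t : (Scheme.pointSmallEtale ξ).fiber.obj V) :
    ((Scheme.pointSmallEtale ξ).skyscraperSheafAdjunction.homEquiv G A f).hom.app (op V) ≫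
      Pi.π (fun _ : (Scheme.pointSmallEtale ξ).fiber.obj V => A) t = germ ξ G t ≫ f := by
  have e : ((Scheme.pointSmallEtale ξ).skyscraperSheafAdjunction.homEquiv G A f).hom =
      (Scheme.pointSmallEtale ξ).skyscraperPresheafHomEquiv f :=
    (Scheme.pointSmallEtale ξ).skyscraperSheafAdjunction_homEquiv_apply_hom f
  rw [e]
  exact (Scheme.pointSmallEtale ξ).skyscraperPresheafHomEquiv_app_π f V t

lemma extZero_equiv_app {F : EtCoh.Ab U} {G : EtCoh.Ab X} (φ : (EtShriek.extZero j).obj F ⟶ G)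
    (V : U.Etale) :
    ((EtShriek.extZeroAdj j).homEquiv F G φ).hom.app (op V) =
      unitApp j F V ≫ φ.hom.app (op ((EtShriek.compEtale j).obj V)) :=
  congrArg (fun k => NatTrans.app k.hom (op V)) (Adjunction.homEquiv_unit _ F G φ)

/-- The map to the sum of stalks. -/
noncomputable def toSumStalk (F : EtCoh.Ab U) :
    (EtCoh.stalk ξ).obj ((EtShriek.extZero j).obj F) ⟶ stalkSum j ξ F :=
  ((Scheme.pointSmallEtale ξ).skyscraperSheafAdjunction.homEquiv _ _).symm
    (((EtShriek.extZeroAdj j).homEquiv _ _).symm (toSky j ξ F))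

lemma hom_ext {F : EtCoh.Ab U} {A : AddCommGrpCat.{u + 1}}
    (a b : (EtCoh.stalk ξ).obj ((EtShriek.extZero j).obj F) ⟶ A)
    (h : ∀ (V : U.Etale) (t : (Scheme.pointSmallEtale ξ).fiber.obj ((EtShriek.compEtale j).obj V)),
      unitApp j F V ≫ germ ξ _ t ≫ a = unitApp j F V ≫ germ ξ _ t ≫ b) : a = b := by
  apply ((Scheme.pointSmallEtale ξ).skyscraperSheafAdjunction.homEquiv _ _).injective
  apply ((EtShriek.extZeroAdj j).homEquiv _ _).injective
  ext V : 3
  refine Pi.hom_ext _ _ fun t => ?_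
  have key : ∀ c : (EtCoh.stalk ξ).obj ((EtShriek.extZero j).obj F) ⟶ A,
      ((EtShriek.extZeroAdj j).homEquiv _ _
        ((Scheme.pointSmallEtale ξ).skyscraperSheafAdjunction.homEquiv _ _ c)).hom.app V ≫ Pi.π _ t =
        unitApp j F V.unop ≫ germ ξ _ t ≫ c := fun c =>
    (congrArg (· ≫ Pi.π _ t) (extZero_equiv_app j _ V.unop)).trans ((Category.assoc _ _ _).trans
      (congrArg (_ ≫ ·) (skyEquiv_app_π ξ c _ t)))
  exact (key a).trans ((h V.unop t).trans (key b).symm)

lemma germ_toSumStalk (F : EtCoh.Ab U) (V : U.Etale)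
    (t : (Scheme.pointSmallEtale ξ).fiber.obj ((EtShriek.compEtale j).obj V)) :
    unitApp j F V ≫ germ ξ _ t ≫ toSumStalk j ξ F =
      toSum j ξ F V t.left ((Category.assoc _ _ _).trans (Over.w t)) := by
  let φ := ((EtShriek.extZeroAdj j).homEquiv _ _).symm (toSky j ξ F)
  have h1 : φ.hom.app (op ((EtShriek.compEtale j).obj V)) ≫ Pi.π _ t = germ ξ _ t ≫ toSumStalk j ξ F := by
    have e := skyEquiv_app_π ξ (toSumStalk j ξ F) _ t
    rw [show (Scheme.pointSmallEtale ξ).skyscraperSheafAdjunction.homEquiv _ _ (toSumStalk j ξ F) = φ from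
      Equiv.apply_symm_apply _ _] at e
    exact e
  rw [← h1, ← Category.assoc]
  refine (congrArg (· ≫ Pi.π _ t) ((extZero_equiv_app j φ V).symm.trans
    (congrArg (fun (k : F ⟶ (EtShriek.restrAlong j).obj
        ((Scheme.pointSmallEtale ξ).skyscraperSheaf (stalkSum j ξ F))) => k.hom.app (op V))
      (Equiv.apply_symm_apply _ (toSky j ξ F))))).trans ?_
  exact Pi.lift_π _ t

/-- The stalk of an extension by zero is the sum of the stalks at the points above. -/
noncomputable def sumIso (F : EtCoh.Ab U) :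
    stalkSum j ξ F ≅ (EtCoh.stalk ξ).obj ((EtShriek.extZero j).obj F) where
  hom := fromSum j ξ F
  inv := toSumStalk j ξ F
  hom_inv_id := by
    refine Sigma.hom_ext _ _ fun u => ?_
    rw [fromSum, Sigma.ι_desc_assoc, Category.comp_id]
    refine (Scheme.pointSmallEtale u.1).presheafFiber_hom_ext fun V t => ?_
    refine (Category.assoc _ _ _).symm.trans ?_
    refine (congrArg (· ≫ _) (germ_incl j ξ F u t)).trans ((Category.assoc _ _ _).trans ?_)
    refine (germ_toSumStalk j ξ F V (liftFib j ξ u t)).trans ?_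
    exact (germ_ι j ξ F u t).symm
  inv_hom_id := by
    refine hom_ext j ξ _ _ fun V t => ?_
    rw [Category.comp_id, ← Category.assoc, ← Category.assoc]
    refine (congrArg (· ≫ _) ((Category.assoc _ _ _).trans (germ_toSumStalk j ξ F V t))).trans ?_
    rw [toSum, fromSum, Category.assoc, Sigma.ι_desc]
    exact germ_incl j ξ F ⟨t.left ≫ V.hom, (Category.assoc _ _ _).trans (Over.w t)⟩
      (fib (t.left ≫ V.hom) (U := V) t.left rfl)

lemma fromSum_naturality {F G : EtCoh.Ab U} (a : F ⟶ G) :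
    Limits.Sigma.map (fun u : Pts j ξ => (EtCoh.stalk u.1).map a) ≫ fromSum j ξ G =
      fromSum j ξ F ≫ (EtCoh.stalk ξ).map ((EtShriek.extZero j).map a) := by
  refine Sigma.hom_ext _ _ fun u => ?_
  rw [Sigma.ι_map_assoc, fromSum, fromSum, Sigma.ι_desc, Sigma.ι_desc_assoc]
  refine (Scheme.pointSmallEtale u.1).presheafFiber_hom_ext fun V t => ?_
  ext s
  change incl j ξ G u ((EtCoh.stalk u.1).map a (germ u.1 F t s)) =
    (EtCoh.stalk ξ).map ((EtShriek.extZero j).map a) (incl j ξ F u (germ u.1 F t s))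
  refine (congrArg (incl j ξ G u) (stalk_map_germ u.1 a t s)).trans ?_
  refine (ConcreteCategory.congr_hom (germ_incl j ξ G u t) _).trans ?_
  refine Eq.trans ?_ (congrArg ((EtCoh.stalk ξ).map ((EtShriek.extZero j).map a))
    (ConcreteCategory.congr_hom (germ_incl j ξ F u t) s)).symm
  refine Eq.trans ?_ (stalk_map_germ ξ ((EtShriek.extZero j).map a) (liftFib j ξ u t) _).symm
  exact congrArg (germ ξ _ (liftFib j ξ u t))
    (congrArg (fun (k : F ⟶ (EtShriek.restrAlong j).obj ((EtShriek.extZero j).obj G)) =>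
      (ConcreteCategory.hom (k.hom.app (op V))) s) ((EtShriek.extZeroAdj j).unit.naturality a))

omit ξ in
/-- Extension by zero is exact. -/
theorem preservesMonomorphisms_extZero : (EtShriek.extZero j).PreservesMonomorphisms := by
  refine ⟨fun {F G} a _ => mono_of_stalks _ fun Ω _ _ ξ => ?_⟩
  rw [← AddCommGrpCat.mono_iff_injective]
  have e : (EtCoh.stalk ξ).map ((EtShriek.extZero j).map a) =
      (sumIso j ξ F).inv ≫ Limits.Sigma.map (fun u : Pts j ξ => (EtCoh.stalk u.1).map a) ≫
        (sumIso j ξ G).hom := by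
    rw [Iso.eq_inv_comp]
    exact (fromSum_naturality j ξ a).symm
  haveI : ∀ u : Pts j ξ, Mono ((EtCoh.stalk u.1).map a) := fun u => inferInstance
  haveI : HasExactColimitsOfShape (Discrete (Pts j ξ)) AddCommGrpCat.{u + 1} :=
    HasExactColimitsOfShape.of_domain_equivalence _ (Discrete.equivalence Equiv.ulift.{u + 1})
  haveI : Mono (Limits.Sigma.map (fun u : Pts j ξ => (EtCoh.stalk u.1).map a)) := inferInstance
  rw [e]
  infer_instance

omit ξ in
theorem preservesFiniteLimits_extZero : PreservesFiniteLimits (EtShriek.extZero j) := by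
  haveI := preservesMonomorphisms_extZero j
  haveI : (EtShriek.extZero j).IsLeftAdjoint := (EtShriek.extZeroAdj j).isLeftAdjoint
  haveI : PreservesFiniteColimits (EtShriek.extZero j) := ⟨fun _ _ _ => inferInstance⟩
  haveI : PreservesBinaryBiproducts (EtShriek.extZero j) :=
    ⟨fun {K₁ K₂} => preservesBinaryBiproduct_of_preservesBinaryCoproduct _⟩
  haveI : (EtShriek.extZero j).Additive := Functor.additive_of_preservesBinaryBiproducts _
  haveI := (EtShriek.extZero j).preservesHomology_of_preservesMonos_and_cokernels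
  exact (EtShriek.extZero j).preservesFiniteLimits_of_preservesHomology

end GrothLib.ExtZero
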