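import Groth.Agent.Lib.EtSite.Sections
import Groth.Agent.Lib.EtSite.Points
import Groth.Agent.Lib.ExtZero.Stalk
import Groth.Agent.Lib.LocConst.Generic
import Mathlib.AlgebraicGeometry.Morphisms.QuasiSeparated

/-!
# Tuples of distinct points in the fibres of a separated etale morphism

For a separated etale quasi-compact `j : U → X` the tuples of `k` pairwise distinct geometric points
in a fibre are the points of an etale quasi-compact `X`-scheme carrying `k` sections to `U`.
-/

universe u

open CategoryTheory CategoryTheory.Limits AlgebraicGeometry Opposite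
open GrothLib.EtSite

set_option backward.isDefEq.respectTransparency.types false

noncomputable section

namespace GrothLib.ExtZero

variable {U X : Scheme.{u}} (j : U ⟶ X) [Etale j]

/-- An etale `W` with `k` sections to `U`, whose geometric points are the injective `k`-tuples. -/
structure Tuples (k : ℕ) where
  /-- the scheme of tuples -/
  W : X.Etale
  /-- the members of the universal tuple -/
  σ : Fin k → (W.left ⟶ U)
  w : ∀ i, σ i ≫ j = W.hom
  qc : QuasiCompact W.hom
  uc : UniversallyClosed j → UniversallyClosed W.hom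
  inj : ∀ (Ω : Type u) [Field Ω] [IsSepClosed Ω] (l : Spec (CommRingCat.of Ω) ⟶ W.left),
    Function.Injective fun i => l ≫ σ i
  surj : ∀ (Ω : Type u) [Field Ω] [IsSepClosed Ω] (ξ : Spec (CommRingCat.of Ω) ⟶ X)
    (p : Fin k → Pts j ξ), Function.Injective p →
      ∃ l : Spec (CommRingCat.of Ω) ⟶ W.left, l ≫ W.hom = ξ ∧ ∀ i, l ≫ σ i = (p i).1

theorem exists_lift_opens {Y : Scheme.{u}} (O : Y.Opens) {Ω : Type u} [Field Ω]
    (l : Spec (CommRingCat.of Ω) ⟶ Y) (h : l.base default ∈ (O : Set Y)) :
    ∃ m : Spec (CommRingCat.of Ω) ⟶ (O : Scheme.{u}), m ≫ O.ι = l := by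
  refine ⟨IsOpenImmersion.lift O.ι l ?_, IsOpenImmersion.lift_fac _ _ _⟩
  rintro _ ⟨q, rfl⟩
  rw [Scheme.Opens.range_ι, Subsingleton.elim q default]
  exact h

/-- Sections of an etale scheme over a field through one point coincide. -/
theorem section_ext {P : Scheme.{u}} {Ω : Type u} [Field Ω] (q : P ⟶ Spec (CommRingCat.of Ω))
    [Etale q] (s s' : Spec (CommRingCat.of Ω) ⟶ P) (hs : s ≫ q = 𝟙 _) (hs' : s' ≫ q = 𝟙 _)
    (h : s'.base default = s.base default) : s' = s := by
  haveI : IsIso (s ≫ q) := hs.symm ▸ inferInstance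
  haveI : Etale s := Etale.of_comp s q
  haveI : Mono s := mono_of_mono s q
  haveI : IsOpenImmersion s := IsOpenImmersion.of_flat_of_mono _
  have hm := IsOpenImmersion.lift_fac s s' (by
    rintro _ ⟨x, rfl⟩
    exact ⟨default, by rw [Subsingleton.elim x default]; exact h.symm⟩)
  have hid : IsOpenImmersion.lift s s' (by
    rintro _ ⟨x, rfl⟩
    exact ⟨default, by rw [Subsingleton.elim x default]; exact h.symm⟩) = 𝟙 _ := by
    have := congrArg (· ≫ q) hm
    simpa only [Category.assoc, hs, hs', Category.comp_id] using this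
  rw [← hm, hid, Category.id_comp]

/-- Tuples exist. -/
theorem nonempty_tuples [IsSeparated j] [QuasiCompact j] : ∀ k, Nonempty (Tuples j k) := by
  intro k
  induction k with
  | zero =>
    exact ⟨{ W := EtCoh.top X, σ := finZeroElim, w := fun i => i.elim0,
             qc := inferInstanceAs (QuasiCompact (𝟙 X)),
             uc := fun _ => inferInstanceAs (UniversallyClosed (𝟙 X)),
             inj := fun Ω _ _ l i => i.elim0,
             surj := fun Ω _ _ ξ p _ => ⟨ξ, Category.comp_id ξ, fun i => i.elim0⟩ }⟩
  | succ k ih =>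
    obtain ⟨T⟩ := ih
    haveI : Etale T.W.hom := T.W.prop
    haveI := T.qc
    let p₁ : pullback T.W.hom j ⟶ T.W.left := pullback.fst T.W.hom j
    let p₂ : pullback T.W.hom j ⟶ U := pullback.snd T.W.hom j
    have hw : ∀ i, (p₁ ≫ T.σ i) ≫ j = p₂ ≫ j := fun i => by
      rw [Category.assoc, T.w i]
      exact pullback.condition
    choose V hV hVc hVm using fun i => exists_eqLocus j (p₁ ≫ T.σ i) p₂ (hw i)
    let O : (pullback T.W.hom j).Opens := ⟨⋂ i, (V i : Set ↥(pullback T.W.hom j))ᶜ,
      isOpen_iInter_of_finite fun i => (hVc i inferInstance).isOpen_compl⟩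
    have hO : IsClosed (O : Set ↥(pullback T.W.hom j)) := isClosed_iInter fun i => (V i).2.isClosed_compl
    haveI : QuasiCompact O.ι := (quasiCompact_iff O.ι).2 fun S _ hS => by
      refine (Topology.IsClosedEmbedding.isCompact_preimage ?_ hS)
      exact ⟨O.ι.isEmbedding, by rw [Scheme.Opens.range_ι]; exact hO⟩
    let W' : X.Etale := Scheme.Etale.mk (O.ι ≫ p₁ ≫ T.W.hom)
    refine ⟨{ W := W', σ := Fin.snoc (fun i => O.ι ≫ p₁ ≫ T.σ i) (O.ι ≫ p₂), w := ?_,
              qc := inferInstanceAs (QuasiCompact (O.ι ≫ p₁ ≫ T.W.hom)),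
              uc := fun hu => by
                haveI := T.uc hu
                haveI : IsClosedImmersion O.ι := IsClosedImmersion.of_isPreimmersion _
                  (by rw [Scheme.Opens.range_ι]; exact hO)
                haveI : UniversallyClosed p₁ := MorphismProperty.pullback_fst _ _ hu
                exact inferInstanceAs (UniversallyClosed (O.ι ≫ p₁ ≫ T.W.hom)),
              inj := ?_, surj := ?_ }⟩
    · intro i
      refine Fin.lastCases ?_ (fun i => ?_) i
      · rw [Fin.snoc_last]
        change (O.ι ≫ p₂) ≫ j = O.ι ≫ p₁ ≫ T.W.hom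
        rw [Category.assoc, ← pullback.condition]
      · rw [Fin.snoc_castSucc]
        change (O.ι ≫ p₁ ≫ T.σ i) ≫ j = O.ι ≫ p₁ ≫ T.W.hom
        rw [Category.assoc, Category.assoc, T.w i]
    · intro Ω _ _ l
      have hne : ∀ i, l ≫ O.ι ≫ p₁ ≫ T.σ i ≠ l ≫ O.ι ≫ p₂ := fun i he => by
        have h := hVm i Ω (l ≫ O.ι) (by simpa only [Category.assoc] using he)
        exact Set.mem_iInter.1 (show (l ≫ O.ι).base default ∈ (O : Set ↥(pullback T.W.hom j)) from
          (l.base default).2) i h
      intro a b hab
      dsimp only at hab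
      induction a using Fin.lastCases with
      | last =>
        induction b using Fin.lastCases with
        | last => rfl
        | cast b =>
          rw [Fin.snoc_last, Fin.snoc_castSucc] at hab
          exact absurd hab.symm (hne b)
      | cast a =>
        induction b using Fin.lastCases with
        | last =>
          rw [Fin.snoc_last, Fin.snoc_castSucc] at hab
          exact absurd hab (hne a)
        | cast b =>
          rw [Fin.snoc_castSucc, Fin.snoc_castSucc] at hab
          exact congrArg Fin.castSucc (T.inj Ω (l ≫ O.ι ≫ p₁) (by simpa only [Category.assoc] using hab))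
    · intro Ω _ _ ξ p hp
      obtain ⟨l, hl, hlσ⟩ := T.surj Ω ξ (fun i => p i.castSucc) (hp.comp (Fin.castSucc_injective k))
      let l' : Spec (CommRingCat.of Ω) ⟶ pullback T.W.hom j :=
        pullback.lift l (p (Fin.last k)).1 (hl.trans (p (Fin.last k)).2.symm)
      have hl' : l'.base default ∈ (O : Set ↥(pullback T.W.hom j)) := by
        refine Set.mem_iInter.2 fun i hi => ?_
        obtain ⟨m, hm⟩ := exists_lift_opens (V i) l' hi
        have he : l' ≫ p₁ ≫ T.σ i = l' ≫ p₂ := by
          rw [← hm, Category.assoc, Category.assoc, hV i]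
        rw [← Category.assoc, pullback.lift_fst, hlσ i, pullback.lift_snd] at he
        exact (Fin.castSucc_lt_last i).ne (hp (Subtype.ext he))
      obtain ⟨m, hm⟩ := exists_lift_opens O l' hl'
      refine ⟨m, ?_, fun i => ?_⟩
      · change m ≫ O.ι ≫ p₁ ≫ T.W.hom = ξ
        rw [← Category.assoc, hm, ← Category.assoc, pullback.lift_fst, hl]
      · refine Fin.lastCases ?_ (fun i => ?_) i
        · rw [Fin.snoc_last]
          exact (Category.assoc _ _ _).symm.trans ((congrArg (· ≫ p₂) hm).trans (pullback.lift_snd _ _ _))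
        · rw [Fin.snoc_castSucc]
          refine (Category.assoc _ _ _).symm.trans ((congrArg (· ≫ p₁ ≫ T.σ i) hm).trans ?_)
          refine (Category.assoc _ _ _).symm.trans ?_
          rw [show l' ≫ p₁ = l from pullback.lift_fst _ _ _]
          exact hlσ i
/-- The fibres of a quasi-compact etale morphism have finitely many geometric points. -/
theorem finite_pts [QuasiCompact j] {Ω : Type u} [Field Ω] [IsSepClosed Ω]
    (ξ : Spec (CommRingCat.of Ω) ⟶ X) : Finite (Pts j ξ) := by
  let q : pullback ξ j ⟶ Spec (CommRingCat.of Ω) := pullback.fst ξ j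
  haveI := GrothLib.LocConst.locallyQuasiFinite_of_etale q
  haveI : Finite ↥(pullback ξ j) := by
    have := q.finite_preimage_singleton default
    rw [show q ⁻¹' {default} = Set.univ from
      Set.eq_univ_of_forall fun _ => Subsingleton.elim _ _] at this
    exact Set.finite_univ_iff.1 this
  let sec : Pts j ξ → (Spec (CommRingCat.of Ω) ⟶ pullback ξ j) := fun p =>
    pullback.lift (𝟙 _) p.1 ((Category.id_comp _).trans p.2.symm)
  refine Finite.of_injective (fun p => (sec p).base default) fun p p' h => Subtype.ext ?_
  have e := congrArg (· ≫ pullback.snd ξ j) (section_ext q (sec p') (sec p)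
    (pullback.lift_fst _ _ _) (pullback.lift_fst _ _ _) h)
  simpa only [sec, pullback.lift_snd] using e

end GrothLib.ExtZero
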