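import Groth.Agent.Lib.Constructible.Supp
import Groth.Agent.Lib.ExtZero.Tuples
import Mathlib.AlgebraicGeometry.Morphisms.FlatDescent
import Mathlib.AlgebraicGeometry.ZariskisMainTheorem

/-!
# Separated etale morphisms with geometric fibres of constant cardinality are finite
-/

universe u

open CategoryTheory CategoryTheory.Limits AlgebraicGeometry Opposite
open GrothLib.EtSite

set_option backward.isDefEq.respectTransparency.types false

noncomputable section

namespace GrothLib.ExtZero

variable {U X : Scheme.{u}} (j : U ⟶ X) [Etale j] [IsSeparated j] [QuasiCompact j]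

theorem isFinite_of_card (k : ℕ)
    (hk : ∀ (Ω : Type u) [Field Ω] [IsSepClosed Ω] (ξ : Spec (CommRingCat.of Ω) ⟶ X),
      Nat.card (Pts j ξ) = k) : IsFinite j := by
  obtain ⟨T⟩ := nonempty_tuples j k
  let w : T.W.left ⟶ X := T.W.hom
  haveI : Etale w := T.W.prop
  haveI : QuasiCompact w := T.qc
  haveI : Surjective w := ⟨fun x => by
    haveI := finite_pts j (gpt x)
    obtain ⟨l, hl, -⟩ := T.surj _ (gpt x) ((Finite.equivFinOfCardEq (hk _ (gpt x))).symm)
      (Equiv.injective _)
    refine ⟨l.base default, ?_⟩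
    have := congrArg (fun m : Spec (CommRingCat.of _) ⟶ X => m.base default) hl
    exact this.trans (gpt_default x)⟩
  have hp : UniversallyClosed (pullback.fst w j) := ⟨fun {Z' Y'} i₁ i₂ f' hpb => by
    let s : Fin k → (Y' ⟶ Z') := fun i => hpb.lift (𝟙 Y')
      (pullback.lift i₂ (i₂ ≫ T.σ i) (by rw [Category.assoc, T.w i]))
      (by rw [pullback.lift_fst, Category.id_comp])
    have hs1 : ∀ i, s i ≫ f' = 𝟙 Y' := fun i => hpb.lift_fst _ _ _
    have hs2 : ∀ i, s i ≫ i₁ ≫ pullback.snd w j = i₂ ≫ T.σ i := fun i => by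
      rw [← Category.assoc, hpb.lift_snd, pullback.lift_snd]
    have cover : ∀ z : Z', ∃ i, s i (f' z) = z := fun z => by
      let ζ := gpt z
      let η := (ζ ≫ f' ≫ i₂) ≫ w
      haveI := finite_pts j η
      let e : Fin k → Pts j η := fun i => ⟨(ζ ≫ f' ≫ i₂) ≫ T.σ i,
        (Category.assoc _ _ _).trans (congrArg ((ζ ≫ f' ≫ i₂) ≫ ·) (T.w i))⟩
      have he : Function.Bijective e := (Nat.bijective_iff_injective_and_card e).2
        ⟨fun a b h => T.inj _ _ (congrArg Subtype.val h),
          by rw [Nat.card_eq_fintype_card, Fintype.card_fin, hk _ η]⟩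
      obtain ⟨i, hi⟩ := he.2 ⟨ζ ≫ i₁ ≫ pullback.snd w j, by
        simp only [η, Category.assoc]
        rw [← pullback.condition, ← Category.assoc i₁, ← hpb.w, Category.assoc]⟩
      have hi' := congrArg Subtype.val hi
      have : ζ ≫ f' ≫ s i = ζ := by
        refine hpb.hom_ext ?_ (pullback.hom_ext ?_ ?_)
        · simp only [Category.assoc]
          rw [hs1 i, Category.comp_id]
        · simp only [Category.assoc]
          rw [← hpb.w, ← Category.assoc (s i), hs1 i, Category.id_comp]
        · simp only [Category.assoc]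
          rw [hs2 i]
          simpa only [e, Category.assoc] using hi' 
      refine ⟨i, ?_⟩
      have := congrArg (fun m : Spec (CommRingCat.of _) ⟶ Z' => m.base default) this
      rw [← gpt_default z]
      exact this
    intro C hC
    have : f' '' C = ⋃ i, s i ⁻¹' C := by
      ext y
      constructor
      · rintro ⟨z, hz, rfl⟩
        obtain ⟨i, hi⟩ := cover z
        exact Set.mem_iUnion.2 ⟨i, show s i (f' z) ∈ C from hi.symm ▸ hz⟩
      · intro hy
        obtain ⟨i, hi⟩ := Set.mem_iUnion.1 hy
        exact ⟨s i y, hi, congrArg (fun m : Y' ⟶ Y' => m y) (hs1 i)⟩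
    exact this ▸ isClosed_iUnion_of_finite fun i => hC.preimage (s i).continuous⟩
  haveI : UniversallyClosed j :=
    MorphismProperty.of_pullback_fst_of_descendsAlong
      (P := @UniversallyClosed) (Q := (@Surjective ⊓ @Flat ⊓ @QuasiCompact))
      ⟨⟨inferInstance, inferInstance⟩, inferInstance⟩ hp
  haveI : IsProper j := {}
  haveI := GrothLib.LocConst.locallyQuasiFinite_of_etale j
  exact IsFinite.of_isProper_of_locallyQuasiFinite j

end GrothLib.ExtZero
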