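import Groth.Agent.Lib.ExtZero.Tuples
import Groth.Agent.Lib.LocConst.Serre

/-!
# Extension by zero along etale morphisms with fibres of constant cardinality

If all geometric fibres of a separated quasi-compact etale `j` have `k` points, `j_! F` is finite
locally constant for finite locally constant `F`.
-/

universe u

open CategoryTheory CategoryTheory.Limits AlgebraicGeometry Opposite
open GrothLib.EtSite GrothLib.LocConst

set_option backward.isDefEq.respectTransparency.types false

noncomputable section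

namespace GrothLib.ExtZero

/-- A finite family of bijections into the summands gives a bijection into the coproduct. -/
theorem bijective_sum_ι {P : Type u} {k : ℕ} (e : Fin k ≃ P) (A : P → AddCommGrpCat.{u + 1})
    {M : Fin k → Type} [∀ i, AddCommGroup (M i)] (φ : ∀ i, M i →+ A (e i))
    (hφ : ∀ i, Function.Bijective (φ i)) :
    Function.Bijective fun m : ∀ i, M i => ∑ i, Sigma.ι A (e i) (φ i (m i)) := by
  classical
  let pr : ∀ i, ∐ A ⟶ A (e i) := fun i =>
    Sigma.desc fun q => if h : q = e i then eqToHom (congrArg A h) else 0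
  have hpr : ∀ i l (x : A (e l)), l ≠ i → pr i (Sigma.ι A (e l) x) = 0 := fun i l x hne => by
    have h : Sigma.ι A (e l) ≫ pr i = 0 := by
      rw [Sigma.ι_desc, dif_neg (fun h => hne (e.injective h))]
    exact (ConcreteCategory.congr_hom h x)
  have hpr' : ∀ i (x : A (e i)), pr i (Sigma.ι A (e i) x) = x := fun i x => by
    have h : Sigma.ι A (e i) ≫ pr i = 𝟙 _ := by
      rw [Sigma.ι_desc, dif_pos rfl]
      rfl
    exact (ConcreteCategory.congr_hom h x)
  have key : ∀ (m : ∀ i, M i) i, pr i (∑ l, Sigma.ι A (e l) (φ l (m l))) = φ i (m i) :=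
    fun m i => by
      rw [map_sum, Finset.sum_eq_single i (fun l _ hl => hpr i l _ hl) (by simp), hpr']
  constructor
  · intro m m' h
    funext i
    exact (hφ i).1 ((key m i).symm.trans ((congrArg (pr i) h).trans (key m' i)))
  · intro y
    choose m hm using fun i => (hφ i).2 (pr i y)
    refine ⟨m, ?_⟩
    have hid : (∑ i, pr i ≫ Sigma.ι A (e i) : ∐ A ⟶ ∐ A) = 𝟙 _ := by
      refine Sigma.hom_ext _ _ fun q => ?_
      obtain ⟨i, rfl⟩ := e.surjective q
      rw [Preadditive.comp_sum, Category.comp_id,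
        Finset.sum_eq_single i (fun l _ hl => ?_) (by simp)]
      · rw [← Category.assoc, Sigma.ι_desc, dif_pos rfl, eqToHom_refl, Category.id_comp]
      · rw [← Category.assoc, Sigma.ι_desc, dif_neg (fun h => hl (e.injective h).symm), zero_comp]
    have h := ConcreteCategory.congr_hom hid y
    refine Eq.trans ?_ h
    simp only [hm]
    have hev : ∀ S : Finset (Fin k), (∑ i ∈ S, pr i ≫ Sigma.ι A (e i) : ∐ A ⟶ ∐ A) y =
        ∑ i ∈ S, Sigma.ι A (e i) (pr i y) := fun S => by
      induction S using Finset.induction_on with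
      | empty => rfl
      | insert i S hi ih => rw [Finset.sum_insert hi, Finset.sum_insert hi, ← ih]; rfl
    exact (hev Finset.univ).symm

variable {U X : Scheme.{u}} (j : U ⟶ X) [Etale j]

/-- Charts along finitely many sections, on one neighbourhood. -/
theorem exists_refine_charts (F : EtCoh.Ab U) (hF : EtCoh.IsFiniteLocallyConstant F) {k : ℕ}
    {Ω : Type u} [Field Ω] [IsSepClosed Ω] (ξ : Spec (CommRingCat.of Ω) ⟶ X) (W : X.Etale)
    (σ : Fin k → (W.left ⟶ U)) (w : ∀ i, σ i ≫ j = W.hom)
    (t : (Scheme.pointSmallEtale ξ).fiber.obj W) :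
    ∃ (W' : X.Etale) (g : W' ⟶ W) (_ : (Scheme.pointSmallEtale ξ).fiber.obj W')
      (V : Fin k → U.Etale) (r : ∀ i, W' ⟶ (EtShriek.compEtale j).obj (V i))
      (M : Fin k → Type) (_ : ∀ i, AddCommGroup (M i)) (_ : ∀ i, Finite (M i))
      (a : ∀ i, M i →+ EtCoh.sect F (V i)), (∀ i, IsChart F (V i) (a i)) ∧
        ∀ i, (r i).left ≫ (V i).hom = g.left ≫ σ i := by
  haveI : Etale W.hom := W.prop
  haveI : ∀ i, Etale (σ i ≫ j) := fun i => (w i).symm ▸ inferInstance
  haveI : ∀ i, Etale (σ i) := fun i => Etale.of_comp (σ i) j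
  choose U₀ u₀ M inst hfin a₀ ha₀ using fun i => exists_chart (t.left ≫ σ i) hF
  let V₀ : Fin k → U.Etale := fun i => Scheme.Etale.mk (σ i)
  choose V v p q hp hq using fun i => exists_refine₂ (t.left ≫ σ i)
    (fib (t.left ≫ σ i) (U := V₀ i) t.left rfl) (u₀ i)
  have hpw : ∀ i, (p i).left ≫ W.hom = (V i).hom ≫ j := fun i => by
    exact (congrArg ((p i).left ≫ ·) (w i).symm).trans ((Category.assoc _ _ _).symm.trans
      (congrArg (· ≫ j) (MorphismProperty.Over.w (p i))))
  have hv : ∀ i, (v i).left ≫ (p i).left = t.left := fun i => congrArg (fun z => z.left) (hp i)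
  let E : (Scheme.pointSmallEtale ξ).fiber.Elements := ⟨W, t⟩
  let Ei : Fin k → (Scheme.pointSmallEtale ξ).fiber.Elements := fun i =>
    ⟨(EtShriek.compEtale j).obj (V i), fib ξ (U := (EtShriek.compEtale j).obj (V i)) (v i).left (by
      change (v i).left ≫ (V i).hom ≫ j = ξ
      exact (congrArg ((v i).left ≫ ·) (hpw i).symm).trans ((Category.assoc _ _ _).symm.trans
        ((congrArg (· ≫ W.hom) (hv i)).trans (Over.w t))))⟩
  let f : ∀ i, Ei i ⟶ E := fun i => CategoryOfElements.homMk _ _
    (MorphismProperty.Over.homMk (p i).left (hpw i) : (EtShriek.compEtale j).obj (V i) ⟶ W)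
    (Over.OverMorphism.ext (hv i))
  obtain ⟨K, g, r, hr⟩ := IsCofiltered.wideCospan f
  refine ⟨K.1, g.1, K.2, V, fun i => (r i).1, M, inst, hfin,
    fun i => (F.obj.map (q i).op).hom.comp (a₀ i), fun i => (ha₀ i).map (q i), fun i => ?_⟩
  have e1 : (r i).1.left ≫ (p i).left = g.1.left :=
    congrArg (fun z : K ⟶ E => z.1.left) (hr i)
  exact (congrArg ((r i).1.left ≫ ·) (MorphismProperty.Over.w (p i)).symm).trans
    ((Category.assoc _ _ _).symm.trans (congrArg (· ≫ σ i) e1))

variable [EtShriek.JCont j]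

/-- `j_! F` is finite locally constant when the geometric fibres have constant cardinality. -/
theorem flc_extZero_of_card [IsSeparated j] [QuasiCompact j] (F : EtCoh.Ab U)
    (hF : EtCoh.IsFiniteLocallyConstant F) (k : ℕ)
    (hk : ∀ (Ω : Type u) [Field Ω] [IsSepClosed Ω] (ξ : Spec (CommRingCat.of Ω) ⟶ X),
      Nat.card (Pts j ξ) = k) :
    EtCoh.IsFiniteLocallyConstant ((EtShriek.extZero j).obj F) := flc_of_charts fun Ω _ _ ξ => by
  classical
  obtain ⟨T⟩ := nonempty_tuples j k
  haveI := finite_pts j ξ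
  obtain ⟨l, hl, -⟩ := T.surj Ω ξ ((Finite.equivFinOfCardEq (hk Ω ξ)).symm) (Equiv.injective _)
  obtain ⟨W, g, t, V, r, M, _, _, a, ha, hr⟩ :=
    exists_refine_charts j F hF ξ T.W T.σ T.w (fib ξ (U := T.W) l hl)
  let G := (EtShriek.extZero j).obj F
  let Φ : (∀ i, M i) →+ EtCoh.sect G W := ∑ i,
    ((G.obj.map (r i).op).hom.comp ((unitApp j F (V i)).hom.comp (a i))).comp
      (Pi.evalAddMonoidHom M i)
  refine ⟨W, t, ∀ i, M i, inferInstance, inferInstance, Φ, fun Ω' _ _ η s => ?_⟩
  haveI := finite_pts j η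
  have hrs : ∀ i, (s.left ≫ (r i).left ≫ (V i).hom) ≫ j = η := fun i => by
    rw [Category.assoc, Category.assoc]
    refine (congrArg (s.left ≫ ·) (MorphismProperty.Over.w (r i))).trans ?_
    exact Over.w s
  let e0 : Fin k → Pts j η := fun i => ⟨s.left ≫ (r i).left ≫ (V i).hom, hrs i⟩
  have he0 : Function.Injective e0 := fun i i' h => by
    refine T.inj Ω' (s.left ≫ g.left) ?_
    have h' := congrArg Subtype.val h
    exact (Category.assoc _ _ _).trans ((congrArg (s.left ≫ ·) (hr i)).symm.trans (h'.trans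
      ((congrArg (s.left ≫ ·) (hr i')).trans (Category.assoc _ _ _).symm)))
  let e : Fin k ≃ Pts j η := Equiv.ofBijective e0 ((Nat.bijective_iff_injective_and_card e0).2
    ⟨he0, by rw [Nat.card_eq_fintype_card, Fintype.card_fin, hk Ω' η]⟩)
  let φ : ∀ i, M i →+ (EtCoh.stalk (e i).1).obj F := fun i =>
    (germ (e i).1 F (fib (e i).1 (U := V i) (s.left ≫ (r i).left) (Category.assoc _ _ _))).hom.comp
      (a i)
  have hb := ((sumIso j η F).addCommGroupIsoToAddEquiv.bijective).comp
      (bijective_sum_ι e (fun u : Pts j η => (EtCoh.stalk u.1).obj F) φ fun i => ha i Ω' _ _)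
  have hf : (fun m => germ η G s (Φ m)) = (fun y => (sumIso j η F).hom y) ∘ fun m : ∀ i, M i =>
      ∑ i, Sigma.ι (fun u : Pts j η => (EtCoh.stalk u.1).obj F) (e i) (φ i (m i)) := by
    funext m
    simp only [Function.comp_apply, map_sum, Φ, AddMonoidHom.finsetSum_apply]
    refine Finset.sum_congr rfl fun i _ => ?_
    refine (germ_map η G (r i) s _).trans ?_
    have h1 : Sigma.ι (fun u : Pts j η => (EtCoh.stalk u.1).obj F) (e i) ≫ (sumIso j η F).hom =
        incl j η F (e i) := Sigma.ι_desc _ _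
    refine Eq.trans ?_ (ConcreteCategory.congr_hom h1 (φ i (m i))).symm
    refine Eq.trans ?_ (ConcreteCategory.congr_hom (germ_incl j η F (e i) _) _).symm
    rfl
  rw [hf]
  exact hb

end GrothLib.ExtZero
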